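import Mathlib
import Groth.Agent.Lib.Helper9.CocommDiag.Semisimple

/-!
# Base change / descent of ring-hom properties along `- ⊗[k] B`, and extension of points (helper3)
-/

set_option autoImplicit false

universe u

open TensorProduct

namespace Groth.Agent.H3.TorsPt

section Cmp

variable {k E' E'' B : Type u} [CommRing k] [CommRing E'] [CommRing E''] [CommRing B]
  [Algebra k E'] [Algebra k E''] [Algebra k B] [Algebra E' E''] [IsScalarTower k E' E'']

/-- the comparison isomorphism `(E' ⊗ B) ⊗[E'] E'' ≃ E'' ⊗ B` -/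
noncomputable def cmp : (E' ⊗[k] B) ⊗[E'] E'' ≃ₐ[E'] E'' ⊗[k] B :=
  (Algebra.TensorProduct.comm E' (E' ⊗[k] B) E'').trans
    (Algebra.TensorProduct.cancelBaseChange k E' E' E'' B)

lemma cmp_tmul_one (x : E' ⊗[k] B) :
    cmp (k := k) (E'' := E'') (x ⊗ₜ[E'] (1 : E'')) =
      Algebra.TensorProduct.map (IsScalarTower.toAlgHom k E' E'') (AlgHom.id k B) x := by
  induction x using TensorProduct.induction_on with
  | zero => simp
  | tmul a b =>
    simp only [cmp, AlgEquiv.trans_apply, Algebra.TensorProduct.comm_tmul,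
      Algebra.TensorProduct.cancelBaseChange_tmul, Algebra.TensorProduct.map_tmul,
      IsScalarTower.coe_toAlgHom', AlgHom.coe_id, id_eq, Algebra.smul_def, mul_one]
  | add x y hx hy => rw [TensorProduct.add_tmul, map_add, hx, hy, map_add]

end Cmp

section BC

variable {k E' E'' B : Type u} [CommRing k] [CommRing E'] [CommRing E''] [CommRing B]
  [Algebra k E'] [Algebra k E''] [Algebra k B]

/-- base change of a ring-hom property along `- ⊗[k] B` -/
theorem bc_tensor {P : ∀ {R S : Type u} [CommRing R] [CommRing S], (R →+* S) → Prop}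
    (hP : RingHom.IsStableUnderBaseChange P) (hiso : RingHom.RespectsIso P)
    (φ : E' →ₐ[k] E'') (h : P φ.toRingHom) :
    P (Algebra.TensorProduct.map φ (AlgHom.id k B)).toRingHom := by
  letI alg : Algebra E' E'' := φ.toRingHom.toAlgebra
  haveI : IsScalarTower k E' E'' := IsScalarTower.of_algebraMap_eq (fun r => (φ.commutes r).symm)
  have hφ : IsScalarTower.toAlgHom k E' E'' = φ := by ext x; rfl
  have h0 : P (algebraMap E' E'') := h
  have h1 : P (algebraMap (E' ⊗[k] B) ((E' ⊗[k] B) ⊗[E'] E'')) :=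
    hP.tensorProduct (E' ⊗[k] B) h0
  have h2 : (Algebra.TensorProduct.map φ (AlgHom.id k B)).toRingHom =
      (cmp (k := k) (B := B) (E' := E') (E'' := E'')).toRingEquiv.toRingHom.comp
        (algebraMap (E' ⊗[k] B) ((E' ⊗[k] B) ⊗[E'] E'')) := by
    refine RingHom.ext fun x => ?_
    show Algebra.TensorProduct.map φ (AlgHom.id k B) x = cmp (k := k) (x ⊗ₜ[E'] (1 : E''))
    rw [cmp_tmul_one, hφ]
  rw [h2]
  exact hiso.1 _ _ h1

/-- descent of a ring-hom property along `- ⊗[k] B` -/
theorem codesc_tensor {P Q : ∀ {R S : Type u} [CommRing R] [CommRing S], (R →+* S) → Prop}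
    (hPQ : RingHom.CodescendsAlong P Q) (hiso : RingHom.RespectsIso P)
    (φ : E' →ₐ[k] E'') (hQ : Q (algebraMap E' (E' ⊗[k] B)))
    (h : P (Algebra.TensorProduct.map φ (AlgHom.id k B)).toRingHom) :
    P φ.toRingHom := by
  letI alg : Algebra E' E'' := φ.toRingHom.toAlgebra
  haveI : IsScalarTower k E' E'' := IsScalarTower.of_algebraMap_eq (fun r => (φ.commutes r).symm)
  have hφ : IsScalarTower.toAlgHom k E' E'' = φ := by ext x; rfl
  have h2 : algebraMap (E' ⊗[k] B) ((E' ⊗[k] B) ⊗[E'] E'') =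
      (cmp (k := k) (B := B) (E' := E') (E'' := E'')).symm.toRingEquiv.toRingHom.comp
        (Algebra.TensorProduct.map φ (AlgHom.id k B)).toRingHom := by
    refine RingHom.ext fun x => ?_
    show x ⊗ₜ[E'] (1 : E'') = (cmp (k := k) (B := B) (E' := E') (E'' := E'')).symm
      (Algebra.TensorProduct.map φ (AlgHom.id k B) x)
    rw [← hφ, ← cmp_tmul_one, AlgEquiv.symm_apply_apply]
  have h3 : P (algebraMap (E' ⊗[k] B) ((E' ⊗[k] B) ⊗[E'] E'')) := by
    rw [h2]
    exact hiso.1 _ _ h
  show P (algebraMap E' E'')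
  exact RingHom.CodescendsAlong.algebraMap_tensorProduct (Q := @Q) (R := E') (S := E' ⊗[k] B)
    (T := E'') hPQ hQ h3

end BC

section FF

/-- descent of faithful flatness of modules along a faithfully flat base change -/
theorem ffdesc (R : Type*) (S : Type*) (M : Type*) [CommRing R] [CommRing S] [Algebra R S]
    [AddCommGroup M] [Module R M] [Module.FaithfullyFlat R S]
    [Module.FaithfullyFlat S (S ⊗[R] M)] : Module.FaithfullyFlat R M := by
  have hflat : Module.Flat R M := Module.Flat.of_flat_tensorProduct R M S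
  rw [Module.FaithfullyFlat.iff_flat_and_lTensor_reflects_triviality]
  refine ⟨hflat, fun N _ _ hN => ?_⟩
  have h1 : Subsingleton (S ⊗[R] (M ⊗[R] N)) := inferInstance
  have h2 : Subsingleton ((S ⊗[R] M) ⊗[S] (S ⊗[R] N)) :=
    (TensorProduct.AlgebraTensorModule.distribBaseChange R S M N).symm.toEquiv.subsingleton
  have h3 : Subsingleton (S ⊗[R] N) :=
    (Module.FaithfullyFlat.subsingleton_tensorProduct_iff_right S (S ⊗[R] M)).mp h2
  exact (Module.FaithfullyFlat.subsingleton_tensorProduct_iff_right R S).mp h3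

theorem ff_codescends :
    RingHom.CodescendsAlong (fun f => RingHom.FaithfullyFlat f) RingHom.FaithfullyFlat.{u, u} := by
  apply RingHom.CodescendsAlong.mk _ RingHom.FaithfullyFlat.respectsIso
  introv h H
  rw [RingHom.faithfullyFlat_algebraMap_iff] at h H ⊢
  exact ffdesc R S T

end FF

section Ext

variable {k : Type u} [Field k] [IsAlgClosed k] {E' E'' B : Type u} [CommRing E'] [CommRing E'']
  [CommRing B] [Algebra k E'] [Algebra k E''] [Algebra k B]

/-- extension of a rational point along a finite type map which becomes faithfully flat further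
up -/
theorem extend_pt (φ : E' →ₐ[k] E'') (ψ : E'' →ₐ[k] B) (hft : φ.toRingHom.FiniteType)
    (hff : (ψ.comp φ).toRingHom.FaithfullyFlat) (x : E' →ₐ[k] k) :
    ∃ x'' : E'' →ₐ[k] k, x''.comp φ = x := by
  classical
  let m : Ideal E' := RingHom.ker (x : E' →+* k)
  let I : Ideal E'' := m.map (φ : E' →+* E'')
  have hm : m ≠ ⊤ := RingHom.ker_ne_top _
  have hI : I ≠ ⊤ := by
    intro htop
    have h1 : m.map ((ψ.comp φ).toRingHom) = ⊤ := by
      have h2 : (ψ.comp φ).toRingHom = (ψ : E'' →+* B).comp (φ : E' →+* E'') := rfl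
      rw [h2, ← Ideal.map_map]
      show I.map _ = ⊤
      rw [htop, Ideal.map_top]
    letI alg : Algebra E' B := (ψ.comp φ).toRingHom.toAlgebra
    have hff' : Module.FaithfullyFlat E' B := hff
    have h3 := Ideal.comap_map_eq_self_of_faithfullyFlat (B := B) m
    have h4 : m.map (algebraMap E' B) = ⊤ := h1
    rw [h4, Ideal.comap_top] at h3
    exact hm h3.symm
  haveI : Nontrivial (E'' ⧸ I) := Ideal.Quotient.nontrivial_iff.mpr hI
  have hb : ∀ b : E', Ideal.Quotient.mk I (φ b) = algebraMap k (E'' ⧸ I) (x b) := by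
    intro b
    have h1 : b - algebraMap k E' (x b) ∈ m := by
      show x (b - algebraMap k E' (x b)) = 0
      rw [map_sub, AlgHom.commutes]
      exact sub_self _
    have h2 : φ (b - algebraMap k E' (x b)) ∈ I := Ideal.mem_map_of_mem _ h1
    rw [map_sub, AlgHom.commutes] at h2
    have h3 := (Ideal.Quotient.mk_eq_mk_iff_sub_mem _ _).mpr h2
    rw [h3]
    rfl
  have hcomp : (Ideal.Quotient.mk I).comp (φ : E' →+* E'') =
      (algebraMap k (E'' ⧸ I)).comp (x : E' →+* k) := RingHom.ext hb
  have h5 : ((Ideal.Quotient.mk I).comp (φ : E' →+* E'')).FiniteType :=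
    RingHom.FiniteType.comp (RingHom.FiniteType.of_surjective _ Ideal.Quotient.mk_surjective) hft
  rw [hcomp] at h5
  have h6 : (algebraMap k (E'' ⧸ I)).FiniteType := RingHom.FiniteType.of_comp_finiteType h5
  haveI : Algebra.FiniteType k (E'' ⧸ I) := RingHom.finiteType_algebraMap.mp h6
  obtain ⟨M, hM⟩ := Ideal.exists_maximal (E'' ⧸ I)
  obtain ⟨χ, -⟩ := Groth.Agent.H9.CocommDiag.exists_point_of_maximal (k := k) M
  refine ⟨χ.comp (Ideal.Quotient.mkₐ k I), ?_⟩
  ext b
  show χ (Ideal.Quotient.mk I (φ b)) = x b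
  rw [hb, AlgHom.commutes]
  rfl

end Ext

end Groth.Agent.H3.TorsPt
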