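import Mathlib
import Groth.Agent.Lib.Helper3.TorsPt.Desc
import Groth.Agent.Lib.Helper9.Comod
import Groth.Agent.Lib.Helper9.FF.Main
import Groth.Agent.Lib.Helper9.FF.FGSub
import Groth.Agent.Lib.Helper9.FF.Conv
import Groth.Agent.Lib.Helper9.Points.Extend

/-!
# Torsors under an affine group over an algebraically closed field are trivial: algebra (helper3)

`A` a commutative Hopf algebra over a field `k`, `B` a nonzero commutative `k`-algebra with a
coaction `ρ : B → A ⊗ B` making `Spec B` a pseudo-torsor under `Spec A`.  For a sub-Hopf-algebra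
`A'` the subalgebra `Bsub ρ A' = ρ⁻¹(A' ⊗ B)` is the coordinate ring of the quotient of the torsor
by the kernel of `Spec A → Spec A'`; `B` is faithfully flat over it, and enlarging `A'` by a
finitely generated sub-Hopf-algebra enlarges `Bsub` by a finite type extension.  Zorn's lemma then
produces a rational point of `B` when `k` is algebraically closed.
-/

set_option autoImplicit false

universe u

open TensorProduct

namespace Groth.Agent.H3.TorsPt

open Groth.Agent.H9.FF Groth.Agent.H9.FF.Conv Groth.Agent.H9.Comod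

section Slice

variable {k : Type u} [Field k] {V U' M : Type u} [AddCommGroup V] [Module k V]
  [AddCommGroup U'] [Module k U'] [AddCommGroup M] [Module k M]

lemma mem_range_rTensor_iff (i : U' →ₗ[k] V) (x : V ⊗[k] M) :
    x ∈ LinearMap.range (i.rTensor M) ↔ ∀ φ : M →ₗ[k] k, slice φ x ∈ LinearMap.range i := by
  have h1 : LinearMap.range (i.rTensor M) =
      LinearMap.range ((LinearMap.range i).subtype.rTensor M) := by
    have hi : i = (LinearMap.range i).subtype ∘ₗ i.rangeRestrict := by ext x; rfl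
    conv_lhs => rw [hi, LinearMap.rTensor_comp]
    exact LinearMap.range_comp_of_range_eq_top _
      (LinearMap.range_eq_top.mpr (LinearMap.rTensor_surjective M i.surjective_rangeRestrict))
  rw [h1, mem_range_rTensor_iff_slice]

end Slice

section Jmap

variable {k : Type u} [Field k] {A : Type u} [CommRing A] [Algebra k A] {B : Type u} [CommRing B]
  [Algebra k B]

/-- `A' ⊗ B → A ⊗ B` -/
noncomputable def jmap (A' : Subalgebra k A) : ↥A' ⊗[k] B →ₐ[k] A ⊗[k] B :=
  Algebra.TensorProduct.map A'.val (AlgHom.id k B)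

lemma jmap_tmul (A' : Subalgebra k A) (a : A') (c : B) :
    jmap (B := B) A' (a ⊗ₜ c) = (a : A) ⊗ₜ c := by simp [jmap]

lemma jmap_eq_rTensor (A' : Subalgebra k A) (t : ↥A' ⊗[k] B) :
    jmap (B := B) A' t = A'.val.toLinearMap.rTensor B t := by
  induction t using TensorProduct.induction_on with
  | zero => simp
  | tmul a c => simp [jmap]
  | add x y hx hy => rw [map_add, map_add, hx, hy]

lemma jmap_injective (A' : Subalgebra k A) : Function.Injective (jmap (B := B) A') := by
  intro x y h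
  rw [jmap_eq_rTensor, jmap_eq_rTensor] at h
  exact Module.Flat.rTensor_preserves_injective_linearMap (M := B) A'.val.toLinearMap
    Subtype.val_injective h

/-- `A' ⊗ B` as a subalgebra of `A ⊗ B` -/
noncomputable def rng (A' : Subalgebra k A) : Subalgebra k (A ⊗[k] B) := (jmap A').range

lemma mem_rng_iff {A' : Subalgebra k A} (y : A ⊗[k] B) :
    y ∈ rng (B := B) A' ↔ ∀ φ : B →ₗ[k] k, slice φ y ∈ A' := by
  have h1 : y ∈ rng (B := B) A' ↔ y ∈ LinearMap.range (A'.val.toLinearMap.rTensor B) := by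
    constructor
    · intro hy
      obtain ⟨t, rfl⟩ := (AlgHom.mem_range _).mp hy
      exact ⟨t, (jmap_eq_rTensor A' t).symm⟩
    · rintro ⟨t, rfl⟩
      exact (AlgHom.mem_range _).mpr ⟨t, jmap_eq_rTensor A' t⟩
  rw [h1, mem_range_rTensor_iff]
  constructor
  · intro h φ
    obtain ⟨x, hx⟩ := h φ
    rw [← hx]
    exact x.2
  · intro h φ
    exact ⟨⟨_, h φ⟩, rfl⟩

lemma rng_mono {A' A'' : Subalgebra k A} (hle : A' ≤ A'') : rng (B := B) A' ≤ rng A'' := by
  intro y hy
  rw [mem_rng_iff] at hy ⊢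
  exact fun φ => hle (hy φ)

lemma rng_top : rng (B := B) (⊤ : Subalgebra k A) = ⊤ := by
  rw [eq_top_iff]
  intro y _
  rw [mem_rng_iff]
  exact fun φ => Algebra.mem_top

lemma jmap_incl {A' A'' : Subalgebra k A} (hle : A' ≤ A'') (t : ↥A' ⊗[k] B) :
    jmap A'' (Algebra.TensorProduct.map (Subalgebra.inclusion hle) (AlgHom.id k B) t) =
      jmap A' t := by
  induction t using TensorProduct.induction_on with
  | zero => simp
  | tmul a c => simp [jmap]
  | add x y hx hy => rw [map_add, map_add, map_add, hx, hy]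

lemma exists_mem_rng_of_directed {ι : Type*} [Nonempty ι] (K : ι → Subalgebra k A)
    (dir : Directed (· ≤ ·) K) (y : A ⊗[k] B) (hy : y ∈ rng (B := B) (iSup K)) :
    ∃ i, y ∈ rng (B := B) (K i) := by
  obtain ⟨t, rfl⟩ := (AlgHom.mem_range _).mp hy
  clear hy
  induction t using TensorProduct.induction_on with
  | zero => exact ⟨Classical.arbitrary ι, by rw [map_zero]; exact zero_mem _⟩
  | tmul a c =>
    have ha : (a : A) ∈ ((iSup K : Subalgebra k A) : Set A) := a.2
    rw [Subalgebra.coe_iSup_of_directed dir, Set.mem_iUnion] at ha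
    obtain ⟨i, hi⟩ := ha
    refine ⟨i, (AlgHom.mem_range _).mpr ⟨(⟨a, hi⟩ : K i) ⊗ₜ c, ?_⟩⟩
    rw [jmap_tmul, jmap_tmul]
  | add x y hx hy =>
    obtain ⟨i, hi⟩ := hx
    obtain ⟨j, hj⟩ := hy
    obtain ⟨l, hil, hjl⟩ := dir i j
    exact ⟨l, by rw [map_add]; exact add_mem (rng_mono hil hi) (rng_mono hjl hj)⟩

/-- finite generation of `A' ⊔ C` over `A'` -/
lemma finiteType_inclusion_sup (A' C : Subalgebra k A) (hC : C.FG) :
    (Subalgebra.inclusion (le_sup_left : A' ≤ A' ⊔ C)).toRingHom.FiniteType := by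
  classical
  obtain ⟨S, hS⟩ := hC
  letI alg : Algebra A' ↥(A' ⊔ C) :=
    (Subalgebra.inclusion (le_sup_left : A' ≤ A' ⊔ C)).toRingHom.toAlgebra
  have hSB : ∀ s ∈ S, s ∈ A' ⊔ C := fun s hs =>
    (le_sup_right : C ≤ A' ⊔ C) (hS ▸ Algebra.subset_adjoin hs)
  let g : MvPolynomial S A' →ₐ[A'] ↥(A' ⊔ C) :=
    MvPolynomial.aeval (fun i : S => (⟨i.1, hSB i.1 i.2⟩ : ↥(A' ⊔ C)))
  haveI : IsScalarTower k A' ↥(A' ⊔ C) := IsScalarTower.of_algebraMap_eq (fun r => rfl)
  have hsurj : Function.Surjective g := by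
    let T : Subalgebra k A := (g.range.restrictScalars k).map (A' ⊔ C).val
    have h1 : A' ≤ T := by
      intro a ha
      refine Subalgebra.mem_map.mpr ⟨algebraMap A' ↥(A' ⊔ C) ⟨a, ha⟩, ?_, rfl⟩
      rw [Subalgebra.mem_restrictScalars]
      exact Subalgebra.algebraMap_mem g.range _
    have h2 : C ≤ T := by
      rw [← hS]
      apply Algebra.adjoin_le
      intro s hs
      refine Subalgebra.mem_map.mpr ⟨⟨s, hSB s hs⟩, ?_, rfl⟩
      rw [Subalgebra.mem_restrictScalars]
      exact (AlgHom.mem_range _).mpr ⟨MvPolynomial.X ⟨s, hs⟩, by simp [g]⟩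
    have h3 : A' ⊔ C ≤ T := sup_le h1 h2
    intro x
    obtain ⟨y, hy, hyx⟩ := Subalgebra.mem_map.mp (h3 x.2)
    rw [Subalgebra.mem_restrictScalars] at hy
    obtain ⟨p, hp⟩ := (AlgHom.mem_range _).mp hy
    exact ⟨p, by rw [hp]; exact Subtype.ext hyx⟩
  show @Algebra.FiniteType A' ↥(A' ⊔ C) _ _ alg
  exact Algebra.FiniteType.of_surjective g hsurj

end Jmap

end Groth.Agent.H3.TorsPt
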