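import Mathlib
import Groth.Agent.Lib.Helper3.TorsPt.Core

/-!
# Torsor coactions: the subalgebras `Bsub ρ A'` (helper3)
-/

set_option autoImplicit false

universe u

open TensorProduct

namespace Groth.Agent.H3.TorsPt

open Groth.Agent.H9.FF Groth.Agent.H9.FF.Conv Groth.Agent.H9.Comod

variable {k : Type u} [Field k] {A : Type u} [CommRing A] [HopfAlgebra k A] {B : Type u}
  [CommRing B] [Algebra k B]

/-- the torsor shear map `b ⊗ b' ↦ ρ(b) (1 ⊗ b')` -/
noncomputable def Phi (ρ : B →ₐ[k] A ⊗[k] B) : B ⊗[k] B →ₐ[k] A ⊗[k] B :=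
  Algebra.TensorProduct.lift ρ Algebra.TensorProduct.includeRight (fun _ _ => Commute.all _ _)

lemma Phi_tmul (ρ : B →ₐ[k] A ⊗[k] B) (b b' : B) :
    Phi ρ (b ⊗ₜ b') = ρ b * ((1 : A) ⊗ₜ b') := by
  simp [Phi]

/-- the action on points -/
noncomputable def pact {T : Type u} [CommRing T] [Algebra k T] (ρ : B →ₐ[k] A ⊗[k] B)
    (g : A →ₐ[k] T) (p : B →ₐ[k] T) : B →ₐ[k] T :=
  (Algebra.TensorProduct.lift g p (fun _ _ => Commute.all _ _)).comp ρ

/-- `ρ` is a pseudo-torsor coaction -/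
structure IsTors (ρ : B →ₐ[k] A ⊗[k] B) : Prop where
  act_one : pact ρ (cone : A →ₐ[k] B) (AlgHom.id k B) = AlgHom.id k B
  act_mul : ∀ (T : Type u) [CommRing T] [Algebra k T] (g h : A →ₐ[k] T) (p : B →ₐ[k] T),
    pact ρ (cmul g h) p = pact ρ g (pact ρ h p)
  bij : Function.Bijective (Phi ρ)

variable {ρ : B →ₐ[k] A ⊗[k] B}

section Coassoc

/-- coassociativity, elementwise -/
theorem IsTors.coassoc (h : IsTors ρ) (b : B) :
    Algebra.TensorProduct.assoc k k k A A B
      (Algebra.TensorProduct.map (Bialgebra.comulAlgHom k A) (AlgHom.id k B) (ρ b)) =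
      Algebra.TensorProduct.map (AlgHom.id k A) ρ (ρ b) := by
  let ι₁ : A →ₐ[k] A ⊗[k] (A ⊗[k] B) := Algebra.TensorProduct.includeLeft
  let ι₂ : A →ₐ[k] A ⊗[k] (A ⊗[k] B) :=
    (Algebra.TensorProduct.includeRight : A ⊗[k] B →ₐ[k] A ⊗[k] (A ⊗[k] B)).comp
      Algebra.TensorProduct.includeLeft
  let ι₃ : B →ₐ[k] A ⊗[k] (A ⊗[k] B) :=
    (Algebra.TensorProduct.includeRight : A ⊗[k] B →ₐ[k] A ⊗[k] (A ⊗[k] B)).comp
      Algebra.TensorProduct.includeRight
  have key := DFunLike.congr_fun (h.act_mul (A ⊗[k] (A ⊗[k] B)) ι₁ ι₂ ι₃) b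
  have c0 : ∀ (y₂ : A ⊗[k] A) (c : B),
      Algebra.TensorProduct.lift ι₁ ι₂ (fun _ _ => Commute.all _ _) y₂ * ι₃ c =
        Algebra.TensorProduct.assoc k k k A A B (y₂ ⊗ₜ c) := by
    intro y₂ c
    induction y₂ using TensorProduct.induction_on with
    | zero => simp
    | tmul a₁ a₂ =>
      simp [ι₁, ι₂, ι₃, Algebra.TensorProduct.tmul_mul_tmul]
    | add x y hx hy => rw [map_add, add_mul, hx, hy, TensorProduct.add_tmul, map_add]
  have c1 : ∀ y : A ⊗[k] B,
      Algebra.TensorProduct.lift (cmul ι₁ ι₂) ι₃ (fun _ _ => Commute.all _ _) y =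
        Algebra.TensorProduct.assoc k k k A A B
          (Algebra.TensorProduct.map (Bialgebra.comulAlgHom k A) (AlgHom.id k B) y) := by
    intro y
    induction y using TensorProduct.induction_on with
    | zero => simp
    | tmul a c =>
      rw [Algebra.TensorProduct.lift_tmul, cmul_apply, c0, Algebra.TensorProduct.map_tmul]
      rfl
    | add x y hx hy => rw [map_add, map_add, map_add, hx, hy]
  have c2 : ∀ z : A ⊗[k] B,
      Algebra.TensorProduct.lift ι₂ ι₃ (fun _ _ => Commute.all _ _) z = (1 : A) ⊗ₜ z := by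
    intro z
    induction z using TensorProduct.induction_on with
    | zero => simp
    | tmul a c => simp [ι₂, ι₃, Algebra.TensorProduct.tmul_mul_tmul]
    | add x y hx hy => rw [map_add, hx, hy, TensorProduct.tmul_add]
  have c3 : ∀ y : A ⊗[k] B,
      Algebra.TensorProduct.lift ι₁ (pact ρ ι₂ ι₃) (fun _ _ => Commute.all _ _) y =
        Algebra.TensorProduct.map (AlgHom.id k A) ρ y := by
    intro y
    induction y using TensorProduct.induction_on with
    | zero => simp
    | tmul a c =>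
      rw [Algebra.TensorProduct.lift_tmul, Algebra.TensorProduct.map_tmul]
      show ι₁ a * Algebra.TensorProduct.lift ι₂ ι₃ (fun _ _ => Commute.all _ _) (ρ c) = _
      rw [c2]
      simp [ι₁, Algebra.TensorProduct.tmul_mul_tmul]
    | add x y hx hy => rw [map_add, map_add, hx, hy]
  have key' : Algebra.TensorProduct.lift (cmul ι₁ ι₂) ι₃ (fun _ _ => Commute.all _ _) (ρ b) =
      Algebra.TensorProduct.lift ι₁ (pact ρ ι₂ ι₃) (fun _ _ => Commute.all _ _) (ρ b) := key
  rw [← c1, ← c3, key']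

end Coassoc

section Bsub

variable (ρ)

/-- the subalgebra `ρ⁻¹(A' ⊗ B)` of `B` -/
noncomputable def Bsub (A' : Subalgebra k A) : Subalgebra k B := (rng A').comap ρ

variable {ρ}

lemma mem_Bsub {A' : Subalgebra k A} {b : B} : b ∈ Bsub ρ A' ↔ ρ b ∈ rng (B := B) A' := Iff.rfl

lemma Bsub_mono {A' A'' : Subalgebra k A} (hle : A' ≤ A'') : Bsub ρ A' ≤ Bsub ρ A'' :=
  fun _ hb => rng_mono hle hb

lemma Bsub_top : Bsub ρ (⊤ : Subalgebra k A) = ⊤ := by
  rw [eq_top_iff]
  intro b _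
  rw [mem_Bsub, rng_top]
  exact Algebra.mem_top

end Bsub

section K3

/-- the pairing `φ ⊗ ψ` -/
noncomputable def pr (φ ψ : B →ₗ[k] k) : B ⊗[k] B →ₗ[k] k :=
  (TensorProduct.lid k k).toLinearMap ∘ₗ TensorProduct.map φ ψ

@[simp] lemma pr_tmul (φ ψ : B →ₗ[k] k) (b b' : B) : pr φ ψ (b ⊗ₜ b') = φ b * ψ b' := by
  simp [pr]

lemma slice_pr_assoc (φ ψ : B →ₗ[k] k) (y : A ⊗[k] B) (b' : B) :
    slice (pr φ ψ) (Algebra.TensorProduct.assoc k k k A B B (y ⊗ₜ b')) = ψ b' • slice φ y := by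
  induction y using TensorProduct.induction_on with
  | zero => simp
  | tmul a c =>
    rw [Algebra.TensorProduct.assoc_tmul, slice_tmul, slice_tmul, pr_tmul, smul_smul, mul_comm]
  | add x y hx hy => rw [TensorProduct.add_tmul, map_add, map_add, hx, hy, map_add, smul_add]

lemma KI_b (h : IsTors ρ) (z : B ⊗[k] B) :
    Algebra.TensorProduct.assoc k k k A A B
      (Algebra.TensorProduct.map (Bialgebra.comulAlgHom k A) (AlgHom.id k B) (Phi ρ z)) =
    Algebra.TensorProduct.map (AlgHom.id k A) (Phi ρ)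
      (Algebra.TensorProduct.assoc k k k A B B
        (Algebra.TensorProduct.map ρ (AlgHom.id k B) z)) := by
  have c1 : ∀ (y : A ⊗[k] B) (b' : B),
      Algebra.TensorProduct.map (AlgHom.id k A) (Phi ρ)
        (Algebra.TensorProduct.assoc k k k A B B (y ⊗ₜ b')) =
      Algebra.TensorProduct.map (AlgHom.id k A) ρ y * ((1 : A) ⊗ₜ ((1 : A) ⊗ₜ b')) := by
    intro y b'
    induction y using TensorProduct.induction_on with
    | zero => simp
    | tmul a c =>
      rw [Algebra.TensorProduct.assoc_tmul, Algebra.TensorProduct.map_tmul,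
        Algebra.TensorProduct.map_tmul, Phi_tmul, Algebra.TensorProduct.tmul_mul_tmul]
      simp
    | add x y hx hy => rw [TensorProduct.add_tmul, map_add, map_add, hx, hy, map_add, add_mul]
  induction z using TensorProduct.induction_on with
  | zero => simp
  | tmul b b' =>
    rw [Phi_tmul, map_mul, map_mul, h.coassoc, Algebra.TensorProduct.map_tmul,
      Algebra.TensorProduct.map_tmul, c1]
    congr 1
    simp [Algebra.TensorProduct.one_def]
  | add x y hx hy => simp only [map_add, hx, hy]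

lemma KI_c (θ : A ⊗[k] B →ₗ[k] k) (w : A ⊗[k] (B ⊗[k] B)) :
    slice θ (Algebra.TensorProduct.map (AlgHom.id k A) (Phi ρ) w) =
      slice (θ ∘ₗ (Phi ρ).toLinearMap) w := by
  induction w using TensorProduct.induction_on with
  | zero => simp
  | tmul a z => simp
  | add x y hx hy => rw [map_add, map_add, hx, hy, map_add]

lemma KI_d (φ ψ : B →ₗ[k] k) (z : B ⊗[k] B) :
    slice φ (ρ (slice ψ z)) =
      slice (pr φ ψ) (Algebra.TensorProduct.assoc k k k A B B
        (Algebra.TensorProduct.map ρ (AlgHom.id k B) z)) := by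
  induction z using TensorProduct.induction_on with
  | zero => simp
  | tmul b b' =>
    rw [slice_tmul, map_smul, map_smul, Algebra.TensorProduct.map_tmul, slice_pr_assoc]
    rfl
  | add x y hx hy => simp only [map_add, hx, hy]

lemma sl_mem' {A' : Subalgebra k A} (θ : A ⊗[k] B →ₗ[k] k) (c : B) (s : ↥A' ⊗[k] ↥A') :
    slice θ (Algebra.TensorProduct.assoc k k k A A B
      ((TensorProduct.map A'.val.toLinearMap A'.val.toLinearMap s) ⊗ₜ c)) ∈ A' := by
  induction s using TensorProduct.induction_on with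
  | zero => simp
  | tmul a₁ a₂ =>
    rw [TensorProduct.map_tmul, Algebra.TensorProduct.assoc_tmul, slice_tmul]
    exact Subalgebra.smul_mem _ a₁.2 _
  | add x y hx hy =>
    rw [map_add, TensorProduct.add_tmul, map_add, map_add]
    exact add_mem hx hy

lemma sl_mem {A' : Subalgebra k A} (hA' : IsHopfSub k A A') (θ : A ⊗[k] B →ₗ[k] k)
    (t : ↥A' ⊗[k] B) :
    slice θ (Algebra.TensorProduct.assoc k k k A A B
      (Algebra.TensorProduct.map (Bialgebra.comulAlgHom k A) (AlgHom.id k B) (jmap A' t))) ∈ A' := by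
  induction t using TensorProduct.induction_on with
  | zero => simp
  | tmul a c =>
    rw [jmap_tmul, Algebra.TensorProduct.map_tmul]
    obtain ⟨s, hs⟩ := hA'.comul_mem (a : A) a.2
    have : (Bialgebra.comulAlgHom k A) (a : A) =
        TensorProduct.map A'.val.toLinearMap A'.val.toLinearMap s := hs.symm
    rw [this]
    exact sl_mem' θ c s
  | add x y hx hy =>
    rw [map_add, map_add, map_add, map_add]
    exact add_mem hx hy

/-- key step: `Φ⁻¹(A' ⊗ B) ⊆ Bsub ⊗ B` -/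
theorem K3s (h : IsTors ρ) {A' : Subalgebra k A} (hA' : IsHopfSub k A A') (z : B ⊗[k] B)
    (hz : Phi ρ z ∈ rng (B := B) A') : ∃ t, jmap (Bsub ρ A') t = z := by
  have hmem : z ∈ LinearMap.range ((Bsub ρ A').val.toLinearMap.rTensor B) := by
    rw [mem_range_rTensor_iff]
    intro ψ
    suffices hmem : slice ψ z ∈ Bsub ρ A' from ⟨⟨_, hmem⟩, rfl⟩
    rw [mem_Bsub, mem_rng_iff]
    intro φ
    let Φe := LinearEquiv.ofBijective (Phi ρ).toLinearMap h.bij
    let θ : A ⊗[k] B →ₗ[k] k := pr φ ψ ∘ₗ Φe.symm.toLinearMap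
    have hθ : θ ∘ₗ (Phi ρ).toLinearMap = pr φ ψ := by
      refine LinearMap.ext fun w => ?_
      show pr φ ψ (Φe.symm (Φe w)) = pr φ ψ w
      rw [LinearEquiv.symm_apply_apply]
    rw [KI_d, ← hθ, ← KI_c, ← KI_b h]
    obtain ⟨t, ht⟩ := (AlgHom.mem_range _).mp hz
    rw [← ht]
    exact sl_mem hA' θ t
  obtain ⟨t, ht⟩ := hmem
  exact ⟨t, by rw [jmap_eq_rTensor, ht]⟩

/-- the restricted shear isomorphism `Bsub ⊗ B ≃ A' ⊗ B` -/
theorem exists_Phi' (h : IsTors ρ) {A' : Subalgebra k A} (hA' : IsHopfSub k A A') :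
    ∃ Φ' : ↥(Bsub ρ A') ⊗[k] B ≃+* ↥A' ⊗[k] B,
      ∀ t, jmap A' (Φ' t) = Phi ρ (jmap (Bsub ρ A') t) := by
  let F : ↥(Bsub ρ A') ⊗[k] B →ₐ[k] A ⊗[k] B := (Phi ρ).comp (jmap (Bsub ρ A'))
  have hF : ∀ t, F t ∈ (jmap (B := B) A').range := by
    intro t
    induction t using TensorProduct.induction_on with
    | zero => rw [map_zero]; exact zero_mem _
    | tmul e c =>
      have h1 : F (e ⊗ₜ c) = ρ (e : B) * ((1 : A) ⊗ₜ c) := by
        show Phi ρ (jmap (Bsub ρ A') (e ⊗ₜ c)) = _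
        rw [jmap_tmul, Phi_tmul]
      rw [h1]
      refine mul_mem e.2 ((AlgHom.mem_range _).mpr ⟨(1 : A') ⊗ₜ c, ?_⟩)
      rw [jmap_tmul]
      rfl
    | add x y hx hy => rw [map_add]; exact add_mem hx hy
  let je := AlgEquiv.ofInjective (jmap (B := B) A') (jmap_injective A')
  let Φ₀ : ↥(Bsub ρ A') ⊗[k] B →ₐ[k] ↥A' ⊗[k] B :=
    (je.symm : (jmap (B := B) A').range →ₐ[k] ↥A' ⊗[k] B).comp (F.codRestrict _ hF)
  have hje : ∀ y : (jmap (B := B) A').range, jmap A' (je.symm y) = (y : A ⊗[k] B) := by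
    intro y
    have := congrArg Subtype.val (je.apply_symm_apply y)
    exact this
  have hΦ₀ : ∀ t, jmap A' (Φ₀ t) = Phi ρ (jmap (Bsub ρ A') t) := by
    intro t
    show jmap A' (je.symm (F.codRestrict _ hF t)) = _
    rw [hje]
    rfl
  have hinj : Function.Injective Φ₀ := by
    intro x y hxy
    have h1 : Phi ρ (jmap (Bsub ρ A') x) = Phi ρ (jmap (Bsub ρ A') y) := by
      rw [← hΦ₀, ← hΦ₀, hxy]
    exact jmap_injective _ (h.bij.1 h1)
  have hsurj : Function.Surjective Φ₀ := by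
    intro y
    obtain ⟨z, hz⟩ := h.bij.2 (jmap A' y)
    obtain ⟨t, ht⟩ := K3s h hA' z (by rw [hz]; exact (AlgHom.mem_range _).mpr ⟨y, rfl⟩)
    refine ⟨t, jmap_injective A' ?_⟩
    rw [hΦ₀, ht, hz]
  exact ⟨RingEquiv.ofBijective Φ₀ ⟨hinj, hsurj⟩, hΦ₀⟩

end K3

section K45

variable [Nontrivial B]

/-- `B` is faithfully flat over `Bsub ρ A'` -/
theorem ff_Bsub (h : IsTors ρ) {A' : Subalgebra k A} (hA' : IsHopfSub k A A') :
    (Bsub ρ A').val.toRingHom.FaithfullyFlat := by
  have hA : Module.FaithfullyFlat A' A := faithfullyFlat_of_isHopfSub A' hA'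
  have h1 : A'.val.toRingHom.FaithfullyFlat := RingHom.faithfullyFlat_algebraMap_iff.mpr hA
  have h2 : (jmap (B := B) A').toRingHom.FaithfullyFlat :=
    bc_tensor (P := fun f => RingHom.FaithfullyFlat f)
      RingHom.FaithfullyFlat.isStableUnderBaseChange RingHom.FaithfullyFlat.respectsIso A'.val h1
  obtain ⟨Φ', hΦ'⟩ := exists_Phi' h hA'
  let Φeq : B ⊗[k] B ≃+* A ⊗[k] B := RingEquiv.ofBijective (Phi ρ) h.bij
  have h3 : (jmap (B := B) (Bsub ρ A')).toRingHom =
      Φeq.symm.toRingHom.comp ((jmap (B := B) A').toRingHom.comp Φ'.toRingHom) := by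
    refine RingHom.ext fun t => ?_
    show jmap (Bsub ρ A') t = Φeq.symm (jmap A' (Φ' t))
    rw [hΦ' t]
    exact (Φeq.symm_apply_apply _).symm
  have h4 : (jmap (B := B) (Bsub ρ A')).toRingHom.FaithfullyFlat := by
    rw [h3]
    exact RingHom.FaithfullyFlat.respectsIso.1 _ _
      (RingHom.FaithfullyFlat.respectsIso.2 _ _ h2)
  have hQ : (algebraMap ↥(Bsub ρ A') (↥(Bsub ρ A') ⊗[k] B)).FaithfullyFlat :=
    RingHom.faithfullyFlat_algebraMap_iff.mpr inferInstance
  exact codesc_tensor (P := fun f => RingHom.FaithfullyFlat f) (Q := RingHom.FaithfullyFlat)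
    ff_codescends RingHom.FaithfullyFlat.respectsIso (Bsub ρ A').val hQ h4

/-- `Bsub ρ A''` is of finite type over `Bsub ρ A'` if `A''` is of finite type over `A'` -/
theorem ft_Bsub (h : IsTors ρ) {A' A'' : Subalgebra k A} (hA' : IsHopfSub k A A')
    (hA'' : IsHopfSub k A A'') (hle : A' ≤ A'')
    (hft : (Subalgebra.inclusion hle).toRingHom.FiniteType) :
    (Subalgebra.inclusion (Bsub_mono (ρ := ρ) hle)).toRingHom.FiniteType := by
  have h2 : (Algebra.TensorProduct.map (Subalgebra.inclusion hle)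
      (AlgHom.id k B)).toRingHom.FiniteType :=
    bc_tensor (P := @RingHom.FiniteType) RingHom.finiteType_isStableUnderBaseChange
      RingHom.finiteType_respectsIso (Subalgebra.inclusion hle) hft
  obtain ⟨Φ', hΦ'⟩ := exists_Phi' h hA'
  obtain ⟨Φ'', hΦ''⟩ := exists_Phi' h hA''
  have h3 : (Algebra.TensorProduct.map (Subalgebra.inclusion (Bsub_mono (ρ := ρ) hle))
      (AlgHom.id k B)).toRingHom =
      Φ''.symm.toRingHom.comp ((Algebra.TensorProduct.map (Subalgebra.inclusion hle)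
        (AlgHom.id k B)).toRingHom.comp Φ'.toRingHom) := by
    refine RingHom.ext fun t => ?_
    show _ = Φ''.symm (Algebra.TensorProduct.map (Subalgebra.inclusion hle) (AlgHom.id k B) (Φ' t))
    rw [RingEquiv.eq_symm_apply]
    apply jmap_injective A''
    rw [jmap_incl, hΦ', hΦ'']
    congr 1
    exact jmap_incl (Bsub_mono (ρ := ρ) hle) t
  have h4 : (Algebra.TensorProduct.map (Subalgebra.inclusion (Bsub_mono (ρ := ρ) hle))
      (AlgHom.id k B)).toRingHom.FiniteType := by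
    rw [h3]
    exact RingHom.finiteType_respectsIso.1 _ _ (RingHom.finiteType_respectsIso.2 _ _ h2)
  have hQ : (algebraMap ↥(Bsub ρ A') (↥(Bsub ρ A') ⊗[k] B)).FaithfullyFlat :=
    RingHom.faithfullyFlat_algebraMap_iff.mpr inferInstance
  exact codesc_tensor (P := @RingHom.FiniteType) (Q := RingHom.FaithfullyFlat)
    RingHom.FiniteType.codescendsAlong_faithfullyFlat RingHom.finiteType_respectsIso
    (Subalgebra.inclusion (Bsub_mono (ρ := ρ) hle)) hQ h4

/-- the coinvariants are the constants -/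
theorem Bsub_bot (h : IsTors ρ) : Bsub ρ (⊥ : Subalgebra k A) = ⊥ := by
  rw [eq_bot_iff]
  intro b hb
  have s1 : ∀ t : ↥(⊥ : Subalgebra k A) ⊗[k] B, ∃ c : B,
      jmap (B := B) (⊥ : Subalgebra k A) t = (1 : A) ⊗ₜ c := by
    intro t
    induction t using TensorProduct.induction_on with
    | zero => exact ⟨0, by rw [map_zero, TensorProduct.tmul_zero]⟩
    | tmul a c =>
      obtain ⟨r, hr⟩ := Algebra.mem_bot.mp a.2
      refine ⟨r • c, ?_⟩
      rw [jmap_tmul, ← hr, Algebra.algebraMap_eq_smul_one, TensorProduct.smul_tmul]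
    | add x y hx hy =>
      obtain ⟨c, hc⟩ := hx
      obtain ⟨c', hc'⟩ := hy
      exact ⟨c + c', by rw [map_add, hc, hc', TensorProduct.tmul_add]⟩
  obtain ⟨t, ht⟩ := (AlgHom.mem_range _).mp (mem_Bsub.mp hb)
  obtain ⟨c, hc⟩ := s1 t
  have hρ : ρ b = (1 : A) ⊗ₜ c := by rw [← ht, hc]
  have s2 : c = b := by
    have := DFunLike.congr_fun h.act_one b
    have e : pact ρ (cone : A →ₐ[k] B) (AlgHom.id k B) b =
        Algebra.TensorProduct.lift (cone : A →ₐ[k] B) (AlgHom.id k B)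
          (fun _ _ => Commute.all _ _) (ρ b) := rfl
    rw [e, hρ, Algebra.TensorProduct.lift_tmul, map_one, one_mul] at this
    exact this
  rw [s2] at hρ
  have s3 : b ⊗ₜ[k] (1 : B) = (1 : B) ⊗ₜ[k] b := by
    apply h.bij.1
    rw [Phi_tmul, Phi_tmul, hρ, map_one, one_mul, Algebra.TensorProduct.tmul_mul_tmul, one_mul,
      mul_one]
  obtain ⟨ℓ, hℓ⟩ := LinearMap.exists_leftInverse_of_injective (Algebra.linearMap k B)
    (LinearMap.ker_eq_bot.mpr (algebraMap k B).injective)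
  have hℓ1 : ℓ 1 = 1 := by
    have := LinearMap.congr_fun hℓ 1
    simpa using this
  have s4 := congrArg (slice ℓ) s3
  rw [slice_tmul, slice_tmul, hℓ1, one_smul] at s4
  rw [s4]
  exact Algebra.mem_bot.mpr ⟨ℓ b, by rw [Algebra.algebraMap_eq_smul_one]⟩

end K45

end Groth.Agent.H3.TorsPt
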