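import Mathlib
import Groth.Agent.Lib.Helper3.TorsPt.Core2

/-!
# Torsor coactions over an algebraically closed field have rational points (helper3)
-/

set_option autoImplicit false

universe u

open TensorProduct

namespace Groth.Agent.H3.TorsPt

open Groth.Agent.H9.FF Groth.Agent.H9.FF.Conv Groth.Agent.H9.Comod Groth.Agent.H9.Points

variable {k : Type u} [Field k] {A : Type u} [CommRing A] [HopfAlgebra k A] {B : Type u}
  [CommRing B] [Algebra k B]

variable (ρ : B →ₐ[k] A ⊗[k] B)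

/-- partial points of the torsor: a sub-Hopf-algebra `A'` and a rational point of `Bsub ρ A'` -/
structure PT where
  A' : Subalgebra k A
  hA' : IsHopfSub k A A'
  pt : ↥(Bsub ρ A') →ₐ[k] k

variable {ρ}

instance : Preorder (PT ρ) where
  le p q := ∃ hle : p.A' ≤ q.A', q.pt.comp (Subalgebra.inclusion (Bsub_mono (ρ := ρ) hle)) = p.pt
  le_refl p := ⟨le_rfl, by ext x; rfl⟩
  le_trans p q r := by
    rintro ⟨h1, h1'⟩ ⟨h2, h2'⟩
    refine ⟨h1.trans h2, ?_⟩
    rw [← h1', ← h2']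
    ext x
    rfl

/-- chains of partial points have upper bounds -/
theorem PT.exists_ub (c : Set (PT ρ)) (hc : IsChain (· ≤ ·) c) (y : PT ρ) (hy : y ∈ c) :
    ∃ ub : PT ρ, ∀ z ∈ c, z ≤ ub := by
  classical
  haveI : Nonempty c := ⟨⟨y, hy⟩⟩
  let K : c → Subalgebra k A := fun i => i.1.A'
  let KB : c → Subalgebra k B := fun i => Bsub ρ (K i)
  have hchain : ∀ i j : c, i.1 ≤ j.1 ∨ j.1 ≤ i.1 := by
    intro i j
    by_cases hij : i.1 = j.1
    · left; rw [hij]
    · exact hc i.2 j.2 hij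
  have dir : Directed (· ≤ ·) K := by
    intro i j
    rcases hchain i j with h | h
    · exact ⟨j, h.1, le_rfl⟩
    · exact ⟨i, le_rfl, h.1⟩
  have dirB : Directed (· ≤ ·) KB := by
    intro i j
    obtain ⟨l, h1, h2⟩ := dir i j
    exact ⟨l, Bsub_mono h1, Bsub_mono h2⟩
  let f : ∀ i : c, KB i →ₐ[k] k := fun i => i.1.pt
  have hf : ∀ (i j : c) (h : KB i ≤ KB j), f i = (f j).comp (Subalgebra.inclusion h) := by
    intro i j h
    rcases hchain i j with h' | h'
    · obtain ⟨hle, he⟩ := h'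
      exact he.symm
    · obtain ⟨hle, he⟩ := h'
      show i.1.pt = j.1.pt.comp (Subalgebra.inclusion h)
      rw [← he]
      ext x
      rfl
  have hT : Bsub ρ (iSup K) ≤ iSup KB := by
    intro b hb
    obtain ⟨i, hi⟩ := exists_mem_rng_of_directed K dir (ρ b) hb
    exact le_iSup KB i hi
  refine ⟨⟨iSup K, isHopfSub_iSup K dir (fun i => i.1.hA'),
    Subalgebra.iSupLift KB dirB f hf (Bsub ρ (iSup K)) hT⟩, ?_⟩
  intro z hz
  refine ⟨le_iSup K ⟨z, hz⟩, ?_⟩
  exact Subalgebra.iSupLift_comp_inclusion (K := KB) (dir := dirB) (f := f) (hf := hf)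
    (T := Bsub ρ (iSup K)) (hT := hT) (i := ⟨z, hz⟩) (Bsub_mono (le_iSup K ⟨z, hz⟩))

variable [IsAlgClosed k] [Nontrivial B]

/-- a maximal partial point is defined everywhere -/
theorem PT.eq_top_of_isMax (h : IsTors ρ) (m : PT ρ) (hm : IsMax m) : m.A' = ⊤ := by
  classical
  by_contra hne
  obtain ⟨x, hx⟩ : ∃ x : A, x ∉ m.A' := by
    by_contra hcon
    push Not at hcon
    exact hne (eq_top_iff.mpr fun x _ => hcon x)
  obtain ⟨C, hC, hCfg, hxC⟩ := exists_fg_isHopfSub (k := k) ({x} : Finset A)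
  have hxC' : x ∈ C := hxC (by simp)
  have hA'' : IsHopfSub k A (m.A' ⊔ C) := isHopfSub_sup m.hA' hC
  have hft := finiteType_inclusion_sup m.A' C hCfg
  have hft' := ft_Bsub h m.hA' hA'' le_sup_left hft
  have hff := ff_Bsub h m.hA'
  obtain ⟨x'', hx''⟩ := extend_pt (Subalgebra.inclusion (Bsub_mono (ρ := ρ) le_sup_left))
    (Bsub ρ (m.A' ⊔ C)).val hft' hff m.pt
  let m' : PT ρ := ⟨m.A' ⊔ C, hA'', x''⟩
  have hle : m ≤ m' := ⟨le_sup_left, hx''⟩
  have hle' : m' ≤ m := hm hle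
  exact hx (hle'.1 ((le_sup_right : C ≤ m.A' ⊔ C) hxC'))

/-- **Main algebraic theorem**: a torsor coaction over an algebraically closed field has a
rational point. -/
theorem exists_point (h : IsTors ρ) : Nonempty (B →ₐ[k] k) := by
  classical
  have hbot : IsHopfSub k A (⊥ : Subalgebra k A) := by
    obtain ⟨C, hC, -, -⟩ := exists_fg_isHopfSub (k := k) (A := A) (∅ : Finset A)
    constructor
    · intro b hb
      obtain ⟨r, rfl⟩ := Algebra.mem_bot.mp hb
      refine ⟨(algebraMap k (⊥ : Subalgebra k A) r) ⊗ₜ (1 : (⊥ : Subalgebra k A)), ?_⟩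
      rw [TensorProduct.map_tmul]
      show algebraMap k A r ⊗ₜ[k] (1 : A) = Coalgebra.comul (algebraMap k A r)
      rw [Bialgebra.comul_algebraMap]
      rfl
    · intro b hb
      obtain ⟨r, rfl⟩ := Algebra.mem_bot.mp hb
      have : HopfAlgebra.antipode k (algebraMap k A r) = algebraMap k A r := by
        rw [Algebra.algebraMap_eq_smul_one, map_smul, HopfAlgebra.antipode_one]
      rw [this]
      exact Subalgebra.algebraMap_mem _ r
  have e0 : Bsub ρ (⊥ : Subalgebra k A) = ⊥ := Bsub_bot h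
  let p0 : ↥(Bsub ρ (⊥ : Subalgebra k A)) →ₐ[k] k :=
    ((Algebra.botEquiv k B : (⊥ : Subalgebra k B) →ₐ[k] k)).comp
      (Subalgebra.inclusion (le_of_eq e0))
  let a : PT ρ := ⟨⊥, hbot, p0⟩
  obtain ⟨m, -, hm⟩ := zorn_le_nonempty_Ici₀ a
    (fun c _ hc y hy => PT.exists_ub c hc y hy) a le_rfl
  have htop := PT.eq_top_of_isMax h m hm
  have hmem : ∀ b : B, b ∈ Bsub ρ m.A' := fun b => by
    rw [htop, Bsub_top]; exact Algebra.mem_top
  exact ⟨m.pt.comp (AlgHom.codRestrict (AlgHom.id k B) (Bsub ρ m.A') hmem)⟩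

end Groth.Agent.H3.TorsPt
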