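import Mathlib
import Groth.Prelude.Def_NonAbH2
import Groth.Agent.Lib.Helper3.TorsPt.Core3
import Groth.Agent.Lib.Helper3.HopfBridge
import Groth.Agent.Lib.Helper9.AlgGrpAct
import Groth.Agent.Lib.Helper1.FpqcAffine

/-!
# Torsors under affine groups over an algebraically closed field: scheme side (helper3)
-/

set_option autoImplicit false

universe u

open CategoryTheory CategoryTheory.Limits MonoidalCategory CartesianMonoidalCategory MonObj GrpObj
  AlgebraicGeometry
open scoped TensorProduct

namespace Groth.Agent.H3.TorsPt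

section Sp

variable (k : Type u) [CommRing k]

/-- `Spec T` as a scheme over `Spec k` -/
noncomputable abbrev hS (T : Type u) [CommRing T] [Algebra k T] : Over (Spec (CommRingCat.of k)) :=
  (Spec (CommRingCat.of T)).asOver (Spec (CommRingCat.of k))

variable {S' T T' : Type u} [CommRing S'] [CommRing T] [CommRing T'] [Algebra k S'] [Algebra k T]
  [Algebra k T']

/-- `Spec` of an algebra hom, over `Spec k` -/
noncomputable def sp (f : S' →ₐ[k] T) : hS k T ⟶ hS k S' :=
  (Spec.map (CommRingCat.ofHom f.toRingHom)).asOver _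

lemma sp_left (f : S' →ₐ[k] T) : (sp k f).left = Spec.map (CommRingCat.ofHom f.toRingHom) := rfl

lemma sp_comp (f : S' →ₐ[k] T) (g : T →ₐ[k] T') : sp k (g.comp f) = sp k g ≫ sp k f := by
  ext1
  show Spec.map (CommRingCat.ofHom (g.comp f).toRingHom) =
    Spec.map (CommRingCat.ofHom g.toRingHom) ≫ Spec.map (CommRingCat.ofHom f.toRingHom)
  rw [← Spec.map_comp]
  rfl

lemma sp_id : sp k (AlgHom.id k T) = 𝟙 (hS k T) := by
  ext1
  show Spec.map (CommRingCat.ofHom (AlgHom.id k T).toRingHom) = 𝟙 (Spec (CommRingCat.of T))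
  exact Spec.map_id _

lemma sp_injective : Function.Injective (sp k (S' := S') (T := T)) := by
  intro f g h
  have h1 := congrArg (fun u => u.left) h
  simp only [sp_left] at h1
  have h2 := Spec.map_injective h1
  have h3 : f.toRingHom = g.toRingHom := congrArg (fun u => u.hom) h2
  exact AlgHom.coe_ringHom_injective h3

set_option backward.defeqAttrib.useBackward true in
set_option backward.isDefEq.respectTransparency false in
lemma sp_surjective (u : hS k T ⟶ hS k S') : ∃ f : S' →ₐ[k] T, sp k f = u := by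
  have hw : CommRingCat.ofHom (algebraMap k S') ≫ Spec.preimage u.left =
      CommRingCat.ofHom (algebraMap k T) := by
    apply Spec.map_injective
    simpa [-CategoryTheory.comp_over, specOverSpec_over] using! u.w
  refine ⟨⟨(Spec.preimage u.left).hom, fun r => congr($hw r)⟩, ?_⟩
  ext1
  simp [sp]

end Sp

section Prod

variable (k : Type u) [CommRing k] (A B : Type u) [CommRing A] [CommRing B] [Algebra k A]
  [Algebra k B]

/-- the comparison `Spec (A ⊗ B) ⟶ Spec A × Spec B` -/
noncomputable def mcomp : hS k (A ⊗[k] B) ⟶ hS k A ⊗ hS k B :=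
  lift (sp k (Algebra.TensorProduct.includeLeft : A →ₐ[k] A ⊗[k] B))
    (sp k (Algebra.TensorProduct.includeRight : B →ₐ[k] A ⊗[k] B))

lemma mcomp_fst : mcomp k A B ≫ fst _ _ =
    sp k (Algebra.TensorProduct.includeLeft : A →ₐ[k] A ⊗[k] B) := lift_fst _ _

lemma mcomp_snd : mcomp k A B ≫ snd _ _ =
    sp k (Algebra.TensorProduct.includeRight : B →ₐ[k] A ⊗[k] B) := lift_snd _ _

instance isIso_mcomp : IsIso (mcomp k A B) := by
  have h1 : (mcomp k A B).left = (pullbackSpecIso k A B).inv := by
    refine pullback.hom_ext ?_ ?_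
    · exact (congrArg (fun u => u.left) (mcomp_fst k A B)).trans
        (pullbackSpecIso_inv_fst (R := k) (S := A) (T := B)).symm
    · exact (congrArg (fun u => u.left) (mcomp_snd k A B)).trans
        (pullbackSpecIso_inv_snd (R := k) (S := A) (T := B)).symm
  have h2 : IsIso ((Over.forget _).map (mcomp k A B)) := by
    show IsIso (mcomp k A B).left
    rw [h1]
    infer_instance
  exact isIso_of_reflects_iso (mcomp k A B) (Over.forget _)

variable {A B}

lemma lift_sp {T : Type u} [CommRing T] [Algebra k T] (g : A →ₐ[k] T) (p : B →ₐ[k] T) :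
    lift (sp k g) (sp k p) =
      sp k (Algebra.TensorProduct.lift g p (fun _ _ => Commute.all _ _)) ≫ mcomp k A B := by
  have hL : (Algebra.TensorProduct.lift g p (fun _ _ => Commute.all _ _)).comp
      (Algebra.TensorProduct.includeLeft : A →ₐ[k] A ⊗[k] B) = g := by
    ext b; simp
  have hR : (Algebra.TensorProduct.lift g p (fun _ _ => Commute.all _ _)).comp
      (Algebra.TensorProduct.includeRight : B →ₐ[k] A ⊗[k] B) = p := by
    ext b; simp
  apply CartesianMonoidalCategory.hom_ext
  · rw [lift_fst, Category.assoc, mcomp_fst, ← sp_comp, hL]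
  · rw [lift_snd, Category.assoc, mcomp_snd, ← sp_comp, hR]

end Prod

section Act

open Groth.Agent.H9.FF.Conv Groth.Agent.H9.AlgGrpAct

variable {k : Type u} [Field k] {A B : Type u} [CommRing A] [HopfAlgebra k A] [CommRing B]
  [Algebra k B] {G P : Over (Spec (CommRingCat.of k))} [GrpObj G] (a : AlgGrp.Action G P)
  (e : G ≅ hS k A) [IsMonHom e.hom] (f : P ≅ hS k B)

/-- the action transported to `Spec A`, `Spec B` -/
noncomputable def act' : hS k A ⊗ hS k B ⟶ hS k B := (e.inv ⊗ₘ f.inv) ≫ a.act ≫ f.hom

omit [IsMonHom e.hom] in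
lemma lift_act' {T : Over (Spec (CommRingCat.of k))} (g : T ⟶ hS k A) (x : T ⟶ hS k B) :
    lift g x ≫ act' a e f = lift (g ≫ e.inv) (x ≫ f.inv) ≫ a.act ≫ f.hom := by
  unfold act'
  rw [lift_map_assoc]

lemma act'_one {T : Over (Spec (CommRingCat.of k))} (x : T ⟶ hS k B) :
    lift (1 : T ⟶ hS k A) x ≫ act' a e f = x := by
  rw [lift_act', MonObj.one_comp, ← Category.assoc, lift_one_act, Category.assoc, Iso.inv_hom_id,
    Category.comp_id]

lemma act'_mul {T : Over (Spec (CommRingCat.of k))} (g h : T ⟶ hS k A) (x : T ⟶ hS k B) :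
    lift (g * h) x ≫ act' a e f = lift g (lift h x ≫ act' a e f) ≫ act' a e f := by
  rw [lift_act', lift_act', lift_act', MonObj.mul_comp, ← Category.assoc (lift _ _) a.act,
    lift_mul_act]
  simp only [Category.assoc, Iso.hom_inv_id, Category.comp_id]

lemma sp_cmul {T : Type u} [CommRing T] [Algebra k T] (g h : A →ₐ[k] T) :
    sp k (cmul g h) = sp k g * sp k h :=
  map_mul (Spec.mapMulEquiv (R := k) (S := A) (T := T)) (WithConv.toConv g) (WithConv.toConv h)

lemma sp_cone {T : Type u} [CommRing T] [Algebra k T] :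
    sp k (cone : A →ₐ[k] T) = 1 :=
  map_one (Spec.mapMulEquiv (R := k) (S := A) (T := T))

/-- the coaction -/
noncomputable def rho : B →ₐ[k] A ⊗[k] B :=
  (sp_surjective k (mcomp k A B ≫ act' a e f)).choose

omit [IsMonHom e.hom] in
lemma sp_rho : sp k (rho a e f) = mcomp k A B ≫ act' a e f :=
  (sp_surjective k (mcomp k A B ≫ act' a e f)).choose_spec

omit [IsMonHom e.hom] in
lemma sp_pact {T : Type u} [CommRing T] [Algebra k T] (g : A →ₐ[k] T) (p : B →ₐ[k] T) :
    sp k (pact (rho a e f) g p) = lift (sp k g) (sp k p) ≫ act' a e f := by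
  unfold pact
  rw [sp_comp, sp_rho, ← Category.assoc, ← lift_sp]

theorem isTors_rho (hiso : IsIso (lift a.act (snd G P))) : IsTors (rho a e f) := by
  refine ⟨?_, ?_, ?_⟩
  · apply sp_injective k
    rw [sp_pact, sp_cone, sp_id, act'_one]
  · intro T _ _ g h p
    apply sp_injective k
    rw [sp_pact, sp_cmul, act'_mul, ← sp_pact, ← sp_pact]
  · -- bijectivity of the shear map
    let σ : hS k A ⊗ hS k B ⟶ hS k B ⊗ hS k B := lift (act' a e f) (snd _ _)
    have hσ : σ = (e.inv ⊗ₘ f.inv) ≫ lift a.act (snd G P) ≫ (f.hom ⊗ₘ f.hom) := by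
      apply CartesianMonoidalCategory.hom_ext
      · simp only [σ, lift_fst, Category.assoc, tensorHom_fst, lift_fst_assoc]
        rfl
      · simp only [σ, lift_snd, Category.assoc, tensorHom_snd, lift_snd_assoc,
          tensorHom_snd_assoc, Iso.inv_hom_id, Category.comp_id]
    have hσiso : IsIso σ := by
      rw [hσ]
      infer_instance
    have hL : (Phi (rho a e f)).comp
        (Algebra.TensorProduct.includeLeft : B →ₐ[k] B ⊗[k] B) = rho a e f := by
      ext b; simp [Phi]
    have hR : (Phi (rho a e f)).comp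
        (Algebra.TensorProduct.includeRight : B →ₐ[k] B ⊗[k] B) =
        (Algebra.TensorProduct.includeRight : B →ₐ[k] A ⊗[k] B) := by
      ext b; simp [Phi]
    have hΦ : sp k (Phi (rho a e f)) ≫ mcomp k B B = mcomp k A B ≫ σ := by
      apply CartesianMonoidalCategory.hom_ext
      · rw [Category.assoc, mcomp_fst, ← sp_comp, Category.assoc, lift_fst, ← sp_rho, hL]
      · rw [Category.assoc, mcomp_snd, ← sp_comp, Category.assoc, lift_snd, mcomp_snd, hR]
    have hΦiso : IsIso (sp k (Phi (rho a e f))) := by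
      have : sp k (Phi (rho a e f)) = mcomp k A B ≫ σ ≫ inv (mcomp k B B) := by
        rw [← Category.assoc, ← hΦ, Category.assoc, IsIso.hom_inv_id, Category.comp_id]
      rw [this]
      infer_instance
    obtain ⟨Ψ, hΨ⟩ := sp_surjective k (inv (sp k (Phi (rho a e f))))
    have h1 : (Phi (rho a e f)).comp Ψ = AlgHom.id k _ := by
      apply sp_injective k
      rw [sp_comp, hΨ, IsIso.hom_inv_id, sp_id]
    have h2 : Ψ.comp (Phi (rho a e f)) = AlgHom.id k _ := by
      apply sp_injective k
      rw [sp_comp, hΨ, IsIso.inv_hom_id, sp_id]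
    rw [Function.bijective_iff_has_inverse]
    exact ⟨Ψ, fun z => DFunLike.congr_fun h2 z, fun z => DFunLike.congr_fun h1 z⟩

end Act

section Geom

variable {k : Type u} [Field k]

/-- every affine scheme over `Spec k` is `Spec` of a `k`-algebra -/
theorem exists_alg (P : Over (Spec (CommRingCat.of k))) [IsAffine P.left] :
    ∃ (B : Type u) (_ : CommRing B) (_ : Algebra k B), Nonempty (P ≅ hS k B) := by
  obtain ⟨Y, ⟨e⟩⟩ := (essImage_algSpec (R := CommRingCat.of k) (G := P)).mpr ‹_›
  exact ⟨Y.unop, inferInstance, inferInstance, ⟨e.symm⟩⟩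

/-- a locally trivial scheme over a field has a point with values in a field -/
theorem exists_field_point (P : Over (Spec (CommRingCat.of k)))
    (hloc : NonAbH1.IsLocallyTrivialFor Scheme.fpqcPrecoverage P) :
    ∃ (L : CommRingCat.{u}) (_ : Nonempty (Spec L)) (φ : CommRingCat.of k ⟶ L)
      (x : Spec L ⟶ P.left), x ≫ P.hom = Spec.map φ := by
  obtain ⟨R, hR, hsec⟩ := hloc
  obtain ⟨𝒰, -, rfl⟩ := Scheme.mem_propQCPrecoverage_iff_exists_quasiCompactCover.1 hR
  have hne : Nonempty (Spec (CommRingCat.of k)) := inferInstance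
  obtain ⟨s₀⟩ := hne
  obtain ⟨i, y, -⟩ := 𝒰.exists_eq s₀
  obtain ⟨s, hs⟩ := hsec (𝒰.f i) (Presieve.ofArrows.mk i)
  refine ⟨(𝒰.X i).residueField y, inferInstance,
    Spec.preimage ((𝒰.X i).fromSpecResidueField y ≫ 𝒰.f i),
    (𝒰.X i).fromSpecResidueField y ≫ s, ?_⟩
  rw [Category.assoc, hs, Spec.map_preimage]

open Groth.Agent.H9.AlgGrpAct in
/-- a pseudo-torsor under an affine group over a field with a field-valued point is affine -/
theorem isAffine_of_point (G P : Over (Spec (CommRingCat.of k))) [GrpObj G] [IsAffine G.left]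
    (a : AlgGrp.Action G P) (hiso : IsIso (lift a.act (snd G P)))
    (L : CommRingCat.{u}) [Nonempty (Spec L)] (φ : CommRingCat.of k ⟶ L) (x : Spec L ⟶ P.left)
    (hx : x ≫ P.hom = Spec.map φ) : IsAffine P.left := by
  -- the second projection `P × P ⟶ P` is affine
  have h1 : IsAffineHom G.hom := inferInstance
  have h2 : IsAffineHom (pullback.snd G.hom P.hom) :=
    MorphismProperty.pullback_snd (P := @IsAffineHom) G.hom P.hom h1
  have h3 : (lift a.act (snd G P)).left ≫ pullback.snd P.hom P.hom = pullback.snd G.hom P.hom :=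
    congrArg (fun u => u.left) (lift_snd a.act (snd G P))
  have h4 : IsIso (lift a.act (snd G P)).left :=
    inferInstanceAs (IsIso ((Over.forget _).map (lift a.act (snd G P))))
  have h5 : IsAffineHom (pullback.snd P.hom P.hom) := by
    have : pullback.snd P.hom P.hom =
        inv (lift a.act (snd G P)).left ≫ pullback.snd G.hom P.hom := by
      rw [IsIso.eq_inv_comp, h3]
    rw [this]
    infer_instance
  -- base change along the point
  have hw : pullback.snd (Spec.map φ) P.hom ≫ P.hom =
      (pullback.fst (Spec.map φ) P.hom ≫ x) ≫ P.hom := by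
    rw [Category.assoc, hx, pullback.condition]
  let q : pullback (Spec.map φ) P.hom ⟶ pullback P.hom P.hom :=
    pullback.lift (pullback.snd (Spec.map φ) P.hom) (pullback.fst (Spec.map φ) P.hom ≫ x) hw
  have hq1 : q ≫ pullback.fst P.hom P.hom = pullback.snd (Spec.map φ) P.hom :=
    pullback.lift_fst _ _ _
  have hq2 : q ≫ pullback.snd P.hom P.hom = pullback.fst (Spec.map φ) P.hom ≫ x :=
    pullback.lift_snd _ _ _
  have hout : IsPullback (q ≫ pullback.fst P.hom P.hom) (pullback.fst (Spec.map φ) P.hom)
      P.hom (x ≫ P.hom) := by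
    rw [hq1, hx]
    exact (IsPullback.of_hasPullback (Spec.map φ) P.hom).flip
  have hsq : IsPullback q (pullback.fst (Spec.map φ) P.hom) (pullback.snd P.hom P.hom) x :=
    IsPullback.of_right hout hq2 (IsPullback.of_hasPullback P.hom P.hom)
  have h6 : IsAffineHom (pullback.fst (Spec.map φ) P.hom) :=
    MorphismProperty.of_isPullback hsq h5
  have h7 : IsAffine (pullback (Spec.map φ) P.hom) :=
    isAffine_of_isAffineHom (pullback.fst (Spec.map φ) P.hom)
  -- descent along the field extension
  have hsurj : Surjective (Spec.map φ) := by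
    constructor
    intro y
    have : Nonempty (Spec L) := inferInstance
    obtain ⟨z⟩ := this
    exact ⟨z, Subsingleton.elim _ _⟩
  have hflat : Flat (Spec.map φ) := by
    rw [Flat.SpecMap_iff]
    letI alg : Algebra k L := φ.hom.toAlgebra
    have : Module.Flat k L := inferInstance
    exact RingHom.flat_algebraMap_iff.mpr this
  exact Groth.Agent.H1.FpqcAffine.isAffine_of_isAffine_pullback φ P.hom

end Geom

section Main

variable (k : Type u) [Field k] [IsAlgClosed k]

/-- **Main theorem**: over an algebraically closed field, every fpqc torsor under an affine group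
scheme has a rational point. -/
theorem hasSection (G : Over (Spec (CommRingCat.of k))) [GrpObj G] [IsAffine G.left]
    (P : Over (Spec (CommRingCat.of k))) (a : AlgGrp.Action G P)
    (hP : NonAbH1.IsTorsorFor Scheme.fpqcPrecoverage a) :
    Nonempty (𝟙_ (Over (Spec (CommRingCat.of k))) ⟶ P) := by
  obtain ⟨hiso, hloc⟩ := hP
  have hiso' : IsIso (lift a.act (snd G P)) := hiso
  obtain ⟨L, hL, φ, x, hx⟩ := exists_field_point P hloc
  have hPaff : IsAffine P.left := isAffine_of_point G P a hiso' L φ x hx
  obtain ⟨A, hA1, hA2, e, he⟩ := Groth.Agent.H3.HopfBridge.exists_hopf (CommRingCat.of k) G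
  obtain ⟨B, hB1, hB2, ⟨f⟩⟩ := exists_alg P
  letI : HopfAlgebra k A := hA2
  have hnt : Nontrivial B := by
    by_contra hcon
    rw [not_nontrivial_iff_subsingleton] at hcon
    have hne : Nonempty (Spec L) := inferInstance
    obtain ⟨z⟩ := hne
    have z' : Spec (CommRingCat.of B) := f.hom.left (x z)
    have : IsEmpty (PrimeSpectrum B) := inferInstance
    exact this.elim z'
  have ht : IsTors (rho a e f) := isTors_rho a e f hiso'
  obtain ⟨pt⟩ := exists_point ht
  have hid : (hS k k).hom = 𝟙 _ := by
    show Spec.map (CommRingCat.ofHom (algebraMap k k)) = 𝟙 _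
    rw [Algebra.algebraMap_self]
    exact Spec.map_id _
  let u : 𝟙_ (Over (Spec (CommRingCat.of k))) ⟶ hS k k :=
    Over.homMk (𝟙 (Spec (CommRingCat.of k))) (by rw [hid]; rfl)
  exact ⟨u ≫ sp k pt ≫ f.inv⟩

end Main

end Groth.Agent.H3.TorsPt
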